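import Cfsg.Agent.Lib.OrbitSpan.Invariants

/-!
# Coprime orbits when one orbit spans the module
-/

set_option autoImplicit false

namespace Cfsg.Agent.Lib.OrbitSpan.Coprime

open Cfsg.Agent.Lib.OrbitSpan.Invariants

variable {k V H : Type*} [Field k] [AddCommGroup V] [Module k V] [Group H] [Finite H]
variable (ρ : Representation k H V)

/-- The property used for a group acting on a module spanned by the orbit of `a`: the invariants lie in
the span of the orbit sum. -/
def SumSpans {B : Type*} [Group B] [Finite B] (σ : Representation k B V) (a : V) : Prop :=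
  Submodule.span k (Set.range fun h => σ h a) = ⊤ →
    ∀ v, (∀ h, σ h v = v) → v ∈ Submodule.span k {∑ u ∈ (Set.finite_range fun h => σ h a).toFinset, u}

theorem main (a : V) (hspan : Submodule.span k {u : V | ∃ h : H, ρ h a = u} = ⊤)
    (htop : SumSpans ρ a)
    (hsub : ∀ (B : Subgroup H) (A : Subgroup H), (∀ x, x ∈ A ↔ ρ x a = a) →
      A.relIndex B = A.index → SumSpans (ρ.comp B.subtype) a) :
    Module.finrank k ρ.invariants ≤ 1 ∧
    ∀ b : V, (Nat.card {u : V | ∃ h : H, ρ h a = u}).Coprime
      (Nat.card {u : V | ∃ h : H, ρ h b = u}) → ∀ h : H, ρ h b = b := by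
  classical
  have hr : ∀ c : V, {u : V | ∃ h : H, ρ h c = u} = Set.range fun h => ρ h c := fun c => rfl
  rw [hr] at hspan
  refine ⟨?_, fun b hcop => ?_⟩
  · have hle : ρ.invariants ≤ Submodule.span k
        {∑ u ∈ (Set.finite_range fun h => ρ h a).toFinset, u} := fun v hv => htop hspan v hv
    refine (Submodule.finrank_mono hle).trans ?_
    refine (finrank_span_le_card _).trans ?_
    simp
  · letI : MulAction H V :=
      { smul := fun h v => ρ h v
        one_smul := fun v => by change ρ 1 v = v; simp
        mul_smul := fun g h v => by change ρ (g * h) v = ρ g (ρ h v); simp }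
    have horb : ∀ c : V, (MulAction.stabilizer H c).index = Nat.card {u : V | ∃ h : H, ρ h c = u} :=
      fun c => MulAction.index_stabilizer H c
    obtain ⟨htrans, hidx⟩ := stabilizer_transitive (H := H) a b (by rw [horb, horb]; exact hcop)
    have hB := hsub (MulAction.stabilizer H b) (MulAction.stabilizer H a) (fun x => Iff.rfl) hidx
    have heq : (Set.range fun x : MulAction.stabilizer H b =>
        (ρ.comp (MulAction.stabilizer H b).subtype) x a) = Set.range fun h => ρ h a := by
      refine subset_antisymm (by rintro _ ⟨x, rfl⟩; exact ⟨x, rfl⟩) ?_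
      rintro _ ⟨h, rfl⟩
      obtain ⟨x, hx, hxa⟩ := htrans h
      exact ⟨⟨x, hx⟩, hxa⟩
    have hb := hB (heq.symm ▸ hspan) b (fun x => x.2)
    obtain ⟨c, hc⟩ := Submodule.mem_span_singleton.1 hb
    intro g
    rw [← hc, map_smul, map_sum]
    congr 1
    simp only [heq]
    have hinj : ∀ u v : V, ρ g u = ρ g v → u = v := fun u v huv => by
      simpa [← Module.End.mul_apply, ← map_mul] using congrArg (ρ g⁻¹) huv
    refine Finset.sum_bij (fun u _ => ρ g u) ?_ (fun u _ v _ h => hinj u v h) ?_ (fun u _ => rfl)
    · simp only [Set.Finite.mem_toFinset]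
      rintro _ ⟨h, rfl⟩
      exact ⟨g * h, by simp⟩
    · simp only [Set.Finite.mem_toFinset]
      rintro _ ⟨h, rfl⟩
      exact ⟨ρ (g⁻¹ * h) a, ⟨g⁻¹ * h, rfl⟩, by
        rw [← Module.End.mul_apply, ← map_mul, mul_inv_cancel_left]⟩

/-- Non-modular case. -/
theorem sumSpans_of_card_ne_zero {B : Type*} [Group B] [Finite B] (σ : Representation k B V) (a : V)
    (h : (Nat.card B : k) ≠ 0) : SumSpans σ a := fun hspan v hv =>
  invariants_le_span_orbit_sum σ a ⊥ (by simp) hspan 1 ![⊥, ⊤] rfl rfl
    (by intro i j hij; fin_cases i <;> fin_cases j <;> simp_all)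
    (by intro i; fin_cases i <;> simp <;> infer_instance)
    (fun i => Or.inr (by fin_cases i; simpa using h)) v hv

end Cfsg.Agent.Lib.OrbitSpan.Coprime
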