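import Mathlib

/-!
# Invariants of a module spanned by one orbit
-/

set_option autoImplicit false

namespace Cfsg.Agent.Lib.OrbitSpan.Invariants

open Finsupp

variable {k V : Type*} [Field k] [AddCommGroup V] [Module k V]

section Sum

variable {H : Type*} [Group H] [Finite H]

/-- Sum over the cosets of a normal subgroup is unchanged by translation. -/
theorem sum_translate {X : Type*} [AddCommMonoid X] (M L : Subgroup H) [Fintype (L ⧸ M.subgroupOf L)]
    (F : H → X) (hF : ∀ l ∈ L, ∀ m ∈ M, F (l * m) = F l) (g : H) (hg : g ∈ L) :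
    ∑ q : L ⧸ M.subgroupOf L, F (g * (q.out : H)) = ∑ q : L ⧸ M.subgroupOf L, F (q.out : H) := by
  refine Fintype.sum_equiv (MulAction.toPerm (⟨g, hg⟩ : L)) _ _ fun q => ?_
  have h : (((⟨g, hg⟩ : L) * q.out : L) : L ⧸ M.subgroupOf L) =
      ((((⟨g, hg⟩ : L) • q).out : L) : L ⧸ M.subgroupOf L) := by
    rw [QuotientGroup.out_eq', ← MulAction.Quotient.mk_smul_out, smul_eq_mul]
  rw [QuotientGroup.eq, Subgroup.mem_subgroupOf] at h
  change F (g * _) = F _
  have := hF _ ((⟨g, hg⟩ : L) * q.out : L).2 _ h
  refine this.symm.trans (congrArg F ?_)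
  simp only [Subgroup.coe_mul, Subgroup.coe_inv]
  group
  rfl

/-- Sum over the cosets of a normal subgroup is unchanged by conjugation. -/
theorem sum_conj {X : Type*} [AddCommMonoid X] (M L : Subgroup H) [M.Normal] [L.Normal]
    [Fintype (L ⧸ M.subgroupOf L)]
    (F : H → X) (hF : ∀ l ∈ L, ∀ m ∈ M, F (l * m) = F l) (g : H) :
    ∑ q : L ⧸ M.subgroupOf L, F (g * (q.out : H) * g⁻¹) =
      ∑ q : L ⧸ M.subgroupOf L, F (q.out : H) := by
  let e : L ≃* L := MulAut.conjNormal g
  have he : (M.subgroupOf L).map e.toMonoidHom = M.subgroupOf L := by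
    ext x
    constructor
    · rintro ⟨y, hy, rfl⟩
      exact Subgroup.Normal.conj_mem inferInstance (y : H) hy g
    · intro hx
      refine ⟨e.symm x, ?_, e.apply_symm_apply x⟩
      change ((e.symm x : L) : H) ∈ M
      rw [MulAut.conjNormal_symm_apply]
      simpa using Subgroup.Normal.conj_mem (inferInstance : M.Normal) (x : H) hx g⁻¹
  let ē := QuotientGroup.congr (M.subgroupOf L) (M.subgroupOf L) e he
  refine Fintype.sum_equiv ē.toEquiv _ _ fun q => ?_
  have h : ((e q.out : L) : L ⧸ M.subgroupOf L) = (((ē q).out : L) : L ⧸ M.subgroupOf L) := by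
    rw [QuotientGroup.out_eq']
    conv_rhs => rw [← QuotientGroup.out_eq' q]
    rfl
  rw [QuotientGroup.eq, Subgroup.mem_subgroupOf] at h
  change F _ = F ((ē q).out : H)
  have := hF _ (e q.out).2 _ h
  rw [show ((e q.out : L) : H) = g * (q.out : H) * g⁻¹ from MulAut.conjNormal_apply g q.out] at this
  refine this.symm.trans (congrArg F ?_)
  simp only [Subgroup.coe_mul, Subgroup.coe_inv, e, MulAut.conjNormal_apply]
  group

end Sum

variable {H : Type*} [Group H] (ρ : Representation k H V)

/-- The action of a group element on formal combinations of vectors. -/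
noncomputable def act (h : H) : (V →₀ k) →ₗ[k] (V →₀ k) := Finsupp.lmapDomain k k (fun v => ρ h v)

/-- Evaluation of a formal combination of vectors. -/
noncomputable def evalVec : (V →₀ k) →ₗ[k] V := Finsupp.linearCombination k id

theorem evalVec_act (h : H) (w : V →₀ k) : evalVec (act ρ h w) = ρ h (evalVec (k := k) w) := by
  induction w using Finsupp.induction_linear with
  | zero => simp
  | add f g hf hg => simp only [map_add, hf, hg]
  | single a b => simp [act, evalVec, Finsupp.mapDomain_single]

theorem act_mul (g h : H) (w : V →₀ k) : act ρ (g * h) w = act ρ g (act ρ h w) := by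
  simp only [act, Finsupp.lmapDomain_apply, ← Finsupp.mapDomain_comp]
  congr 1
  funext v
  simp

theorem act_one (w : V →₀ k) : act ρ 1 w = w := by
  simp only [act, Finsupp.lmapDomain_apply]
  convert Finsupp.mapDomain_id
  simp

/-- A chain criterion: if every factor either is covered by a subgroup fixing `a` or has order
invertible in `k`, then the invariants of a module spanned by the orbit of `a` lie in the span
of the orbit sum. -/
theorem invariants_le_span_orbit_sum [Finite H] (a : V) (A : Subgroup H)
    (hA : ∀ x ∈ A, ρ x a = a)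
    (hspan : Submodule.span k (Set.range fun h => ρ h a) = ⊤)
    (n : ℕ) (C : Fin (n + 1) → Subgroup H) (hC0 : C 0 = ⊥) (hC1 : C (Fin.last n) = ⊤)
    (hmono : Monotone C) (hnorm : ∀ i, (C i).Normal)
    (hstep : ∀ i : Fin n, C i.succ ≤ C i.castSucc ⊔ A ∨
      ((C i.castSucc).relIndex (C i.succ) : k) ≠ 0)
    (v : V) (hv : ∀ h, ρ h v = v) :
    v ∈ Submodule.span k {∑ u ∈ (Set.finite_range fun h => ρ h a).toFinset, u} := by
  classical
  set O := (Set.finite_range fun h => ρ h a).toFinset with hO
  have memO : ∀ u, u ∈ O ↔ ∃ h, ρ h a = u := fun u => by simp [hO]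
  suffices key : ∀ i : Fin (n + 1), ∃ w : V →₀ k, w.support ⊆ O ∧ (∀ x ∈ C i ⊔ A, act ρ x w = w) ∧
      ∀ v : V, (∀ h ∈ C i, ρ h v = v) →
        v ∈ Submodule.span k (Set.range fun h => ρ h (evalVec w)) by
    obtain ⟨w, hsupp, hfix, hsp⟩ := key (Fin.last n)
    have hinv : ∀ h, act ρ h w = w := fun h => hfix h (by rw [hC1, top_sup_eq]; trivial)
    have hconst : ∀ u ∈ O, w u = w a := by
      intro u hu
      obtain ⟨h, rfl⟩ := (memO u).1 hu
      conv_lhs => rw [← hinv h]
      exact Finsupp.mapDomain_apply (LinearMap.injective_of_comp_eq_id (ρ h) (ρ h⁻¹) (by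
        change ρ h⁻¹ * ρ h = 1
        rw [← map_mul, inv_mul_cancel, map_one])) _ _
    have heval : evalVec w = w a • ∑ u ∈ O, u := by
      rw [evalVec, Finsupp.linearCombination_apply,
        Finsupp.sum_of_support_subset w hsupp (fun i a => a • id i) (fun _ _ => zero_smul _ _), Finset.smul_sum]
      exact Finset.sum_congr rfl fun u hu => by rw [hconst u hu, id_eq]
    have hv' := hsp v fun h _ => hv h
    refine Submodule.span_le.2 ?_ hv'
    rintro _ ⟨h, rfl⟩
    change ρ h (evalVec w) ∈ _
    rw [← evalVec_act, hinv, heval]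
    exact Submodule.smul_mem _ _ (Submodule.subset_span rfl)
  intro i
  induction i using Fin.induction with
  | zero =>
    refine ⟨Finsupp.single a 1, ?_, ?_, ?_⟩
    · refine (Finsupp.support_single_subset).trans ?_
      rw [Finset.singleton_subset_iff]
      exact (memO a).2 ⟨1, by simp⟩
    · intro x hx
      rw [hC0, bot_sup_eq] at hx
      simp [act, Finsupp.mapDomain_single, hA x hx]
    · intro v _
      have : evalVec (Finsupp.single a (1 : k)) = a := by simp [evalVec]
      rw [this, hspan]
      trivial
  | succ i ih =>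
    obtain ⟨w, hsupp, hfix, hsp⟩ := ih
    haveI := hnorm i.castSucc
    haveI := hnorm i.succ
    have hle : C i.castSucc ≤ C i.succ := hmono (Fin.castSucc_lt_succ (i := i)).le
    rcases hstep i with h | h
    · exact ⟨w, hsupp, fun x hx => hfix x (sup_le h le_sup_right hx),
        fun v hv => hsp v fun x hx => hv x (hle hx)⟩
    · set M := C i.castSucc
      set L := C i.succ
      haveI : Fintype (L ⧸ M.subgroupOf L) := Fintype.ofFinite _
      let F : H → (V →₀ k) := fun l => act ρ l w
      have hF : ∀ l ∈ L, ∀ m ∈ M, F (l * m) = F l := fun l _ m hm => by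
        simp only [F, act_mul, hfix m (Subgroup.mem_sup_left hm)]
      refine ⟨∑ q : L ⧸ M.subgroupOf L, F (q.out : H), ?_, ?_, ?_⟩
      · refine Finsupp.support_finsetSum.trans ?_
        intro u hu
        simp only [Finset.mem_biUnion] at hu
        obtain ⟨q, -, hu⟩ := hu
        have hu' := Finsupp.mapDomain_support hu
        simp only [Finset.mem_image] at hu'
        obtain ⟨u', hu', rfl⟩ := hu'
        obtain ⟨g, rfl⟩ := (memO u').1 (hsupp hu')
        exact (memO _).2 ⟨(q.out : H) * g, by simp⟩
      · intro x hx
        have hx' : x ∈ ((L ⊔ A : Subgroup H) : Set H) := hx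
        rw [Subgroup.normal_mul] at hx'
        obtain ⟨l, hl, y, hy, rfl⟩ := hx'
        rw [act_mul, map_sum]
        have : ∑ q : L ⧸ M.subgroupOf L, act ρ y (F (q.out : H)) =
            ∑ q : L ⧸ M.subgroupOf L, F (q.out : H) := by
          rw [← sum_conj M L F hF y]
          refine Finset.sum_congr rfl fun q _ => ?_
          simp only [F, ← act_mul]
          conv_rhs => rw [← hfix y (Subgroup.mem_sup_right hy), ← act_mul]
          congr 2
          group
        rw [this, map_sum, ← sum_translate M L F hF l hl]
        exact Finset.sum_congr rfl fun q _ => by simp only [F, act_mul]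
      · intro v hv
        set T := evalVec w
        let E : V →ₗ[k] V := ∑ q : L ⧸ M.subgroupOf L, ρ (q.out : H)
        have hEv : E v = (M.relIndex L : k) • v := by
          simp only [E, LinearMap.sum_apply]
          rw [Finset.sum_congr rfl fun q _ => hv _ (SetLike.coe_mem _), Finset.sum_const,
            Nat.cast_smul_eq_nsmul, Finset.card_univ, ← Nat.card_eq_fintype_card]
          rfl
        have hEg : ∀ g, E (ρ g T) = ρ g (evalVec (∑ q : L ⧸ M.subgroupOf L, F (q.out : H))) := by
          intro g
          simp only [E, LinearMap.sum_apply, map_sum, F, evalVec_act]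
          rw [← sum_conj M L (fun l => ρ l (ρ g T)) ?_ g]
          · refine Finset.sum_congr rfl fun q _ => ?_
            rw [← Module.End.mul_apply, ← map_mul, inv_mul_cancel_right, map_mul,
              Module.End.mul_apply]
          · intro l _ m hm
            have hm' : g⁻¹ * m * g ∈ M := by
              simpa using Subgroup.Normal.conj_mem (inferInstance : M.Normal) m hm g⁻¹
            have := hfix _ (Subgroup.mem_sup_left hm' (T := A))
            simp only [← Module.End.mul_apply, ← map_mul]
            rw [show l * m * g = l * g * (g⁻¹ * m * g) by group, map_mul, Module.End.mul_apply]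
            congr 1
            rw [← evalVec_act, this]
        have h1 : E v ∈ (Submodule.span k (Set.range fun g => ρ g T)).map E :=
          Submodule.mem_map_of_mem (hsp v fun x hx => hv x (hle hx))
        rw [Submodule.map_span, hEv] at h1
        have h2 : (Submodule.span k (E '' Set.range fun g => ρ g T)) ≤ Submodule.span k
            (Set.range fun g => ρ g (evalVec (∑ q : L ⧸ M.subgroupOf L, F (q.out : H)))) := by
          apply Submodule.span_mono
          rintro _ ⟨_, ⟨g, rfl⟩, rfl⟩
          exact ⟨g, (hEg g).symm⟩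
        exact (Submodule.smul_mem_iff _ h).1 (h2 h1)

/-- If the orbits of `a` and `b` have coprime sizes, the stabiliser of `b` is transitive on the orbit
of `a`, and `p ∤` the orbit of `a` passes to it. -/
theorem stabilizer_transitive [Finite H] {S : Type*} [MulAction H S] (a b : S)
    (hcop : (MulAction.stabilizer H a).index.Coprime (MulAction.stabilizer H b).index) :
    (∀ h : H, ∃ x ∈ MulAction.stabilizer H b, x • a = h • a) ∧
    (MulAction.stabilizer H a).relIndex (MulAction.stabilizer H b) =
      (MulAction.stabilizer H a).index := by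
  set A := MulAction.stabilizer H a
  set B := MulAction.stabilizer H b
  have h1 : A.relIndex B * B.index = (A ⊓ B).index := by
    rw [← Subgroup.inf_relIndex_right, Subgroup.relIndex_mul_index inf_le_right]
  have h2 : A.index ∣ (A ⊓ B).index := Subgroup.index_dvd_of_le inf_le_left
  have h3 : (A ⊓ B).index ≤ A.index * B.index := Subgroup.index_inf_le
  have hB : 0 < B.index := Nat.pos_of_ne_zero Subgroup.FiniteIndex.index_ne_zero
  have h4 : A.relIndex B = A.index := by
    refine le_antisymm (Nat.le_of_mul_le_mul_right (by rw [h1]; exact h3) hB) (Nat.le_of_dvd ?_ ?_)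
    · exact Nat.pos_of_ne_zero Subgroup.FiniteIndex.index_ne_zero
    · exact hcop.dvd_of_dvd_mul_right (h1 ▸ h2)
  refine ⟨?_, h4⟩
  have hstab : MulAction.stabilizer B a = A.subgroupOf B := by ext x; rfl
  have hsub : MulAction.orbit B a ⊆ MulAction.orbit H a := by
    rintro _ ⟨x, rfl⟩
    exact ⟨(x : H), rfl⟩
  have hcard : (MulAction.orbit H a).ncard ≤ (MulAction.orbit B a).ncard := by
    rw [← MulAction.index_stabilizer H a, ← MulAction.index_stabilizer B a, hstab]
    exact h4.ge
  have heq := Set.eq_of_subset_of_ncard_le hsub hcard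
    (Set.finite_range _)
  intro h
  obtain ⟨x, hx⟩ := heq.symm ▸ MulAction.mem_orbit a h
  exact ⟨x, x.2, hx⟩

end Cfsg.Agent.Lib.OrbitSpan.Invariants
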